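import Cfsg.Agent.Quat.Basic

/-!
# `SL(2,3) ≃* Q₈ ⋊ C₃` and the characterization used for sections
-/

set_option autoImplicit false

namespace Cfsg.Agent.Quat

/-- The automorphism `i ↦ j ↦ k ↦ i` of `Q₈` (`i = a 1`, `j = xa 0`, `k = i j = xa 3`), as a function. -/
def betaFun : QuaternionGroup 2 → QuaternionGroup 2
  | .a 0 => .a 0
  | .a 1 => .xa 0
  | .a 2 => .a 2
  | .a 3 => .xa 2
  | .xa 0 => .xa 3
  | .xa 1 => .a 3
  | .xa 2 => .xa 1
  | .xa 3 => .a 1

/-- The automorphism `i ↦ j ↦ k ↦ i` of `Q₈`. -/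
def beta : MulAut (QuaternionGroup 2) where
  toFun := betaFun
  invFun := betaFun ∘ betaFun
  left_inv := by decide
  right_inv := by decide
  map_mul' := by decide

theorem beta_pow : beta ^ 3 = 1 := by
  apply MulEquiv.ext
  change ∀ x, betaFun (betaFun (betaFun x)) = x
  decide

/-- `C₃` acting on `Q₈`. -/
def phi : Multiplicative (ZMod 3) →* MulAut (QuaternionGroup 2) where
  toFun c := zp beta (Multiplicative.toAdd c)
  map_one' := zp_zero _
  map_mul' c d := zp_add beta_pow _ _

/-- `SL(2,3)`. -/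
abbrev SL23 : Type := Matrix.SpecialLinearGroup (Fin 2) (ZMod 3)

/-- The image of `i`. -/
def sI : SL23 := ⟨!![0, 2; 1, 0], by decide⟩
/-- The image of `j`. -/
def sJ : SL23 := ⟨!![1, 1; 1, 2], by decide⟩
/-- The element of order three. -/
def sX : SL23 := ⟨!![1, 1; 0, 1], by decide⟩

/-- `Q₈ → SL(2,3)`. -/
def f1 : QuaternionGroup 2 →* SL23 := lift 2 sI sJ (by decide) (by decide) (by decide)

/-- `C₃ → SL(2,3)`. -/
def f2 : Multiplicative (ZMod 3) →* SL23 where
  toFun c := zp sX (Multiplicative.toAdd c)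
  map_one' := zp_zero _
  map_mul' c d := zp_add (by decide) _ _

theorem f_compat (g : Multiplicative (ZMod 3)) :
    f1.comp (phi g).toMonoidHom = (MulAut.conj (f2 g)).toMonoidHom.comp f1 := by
  ext1 x
  revert g x
  decide

/-- The isomorphism `Q₈ ⋊ C₃ → SL(2,3)` as a homomorphism. -/
def toSL : QuaternionGroup 2 ⋊[phi] Multiplicative (ZMod 3) →* SL23 := SemidirectProduct.lift f1 f2 f_compat

theorem toSL_injective : Function.Injective toSL := by
  rw [injective_iff_map_eq_one]
  rintro ⟨q, c⟩ h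
  have h1 : f1 q * f2 c = 1 := h
  have h2 : ∀ (q : QuaternionGroup 2) (c : Multiplicative (ZMod 3)), f1 q * f2 c = 1 → q = 1 ∧ c = 1 := by
    decide
  obtain ⟨rfl, rfl⟩ := h2 q c h1
  rfl

theorem toSL_surjective : Function.Surjective toSL := by
  have h : ∀ m : SL23, ∃ (q : QuaternionGroup 2) (c : Multiplicative (ZMod 3)), f1 q * f2 c = m := by
    decide
  intro m
  obtain ⟨q, c, h⟩ := h m
  exact ⟨⟨q, c⟩, h⟩

/-- `Q₈ ⋊ C₃ ≃* SL(2,3)`. -/
noncomputable def equivSL : QuaternionGroup 2 ⋊[phi] Multiplicative (ZMod 3) ≃* SL23 :=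
  MulEquiv.ofBijective toSL ⟨toSL_injective, toSL_surjective⟩

theorem quat_hom_ext {M : Type*} [Group M] {n : ℕ} [NeZero n] {f g : QuaternionGroup n →* M}
    (h1 : f (.a 1) = g (.a 1)) (h2 : f (.xa 0) = g (.xa 0)) : f = g := by
  have ha : ∀ i : ZMod (2 * n), f (.a i) = g (.a i) := by
    intro i
    have : (QuaternionGroup.a i : QuaternionGroup n) = (QuaternionGroup.a 1) ^ i.val := by
      rw [QuaternionGroup.a_one_pow, ZMod.natCast_zmod_val]
    rw [this, map_pow, map_pow, h1]
  ext x
  rcases x with i | i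
  · exact ha i
  · have : (QuaternionGroup.xa i : QuaternionGroup n) = QuaternionGroup.xa 0 * QuaternionGroup.a i := by
      rw [QuaternionGroup.xa_mul_a, zero_add]
    rw [this, map_mul, map_mul, h2, ha]

section sec

variable {G : Type*} [Group G]

theorem lift_injective {s t : G} (h4 : s ^ (2 * 2) = 1) (hs : s ^ 2 ≠ 1) (ht : t * t = s ^ 2)
    (hst : t * s * t⁻¹ = s⁻¹) : Function.Injective (lift 2 s t h4 ht hst) := by
  rw [injective_iff_map_eq_one]
  have key : ∀ i : ZMod (2 * 2), t * zp s i ≠ 1 := by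
    intro i hi
    have h1 : t = (zp s i)⁻¹ := eq_inv_of_mul_eq_one_left hi
    apply hs
    have h2 : t * s = s * t := by
      rw [h1, zp]
      exact ((Commute.refl s).pow_left i.val).inv_left
    rw [h2, mul_inv_cancel_right] at hst
    rw [pow_two]
    nth_rewrite 1 [hst]
    exact inv_mul_cancel s
  rintro (i | i) h
  · change zp s i = 1 at h
    have h3 : ∀ i : ZMod (2 * 2), i = 0 ∨ i.val = 1 ∨ i.val = 2 ∨ i.val = 3 := by decide
    rcases h3 i with h0 | h0 | h0 | h0
    · rw [h0]; rfl
    · rw [zp, h0, pow_one] at h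
      exact absurd (by rw [h, one_pow]) hs
    · rw [zp, h0] at h
      exact absurd h hs
    · rw [zp, h0] at h
      have : s = 1 := by
        calc s = s ^ (2 * 2) * (s ^ 3)⁻¹ := by group
          _ = 1 := by rw [h4, h]; simp
      exact absurd (by rw [this, one_pow]) hs
  · exact absurd h (key i)

/-- A group generated by `s, t` satisfying the quaternion relations and an element `x` of odd order with
`s ↦ t ↦ s t` under conjugation by `x` has a quotient isomorphic to `SL(2,3)`. -/
theorem exists_section {s t x : G} (h4 : s ^ (2 * 2) = 1) (hs : s ^ 2 ≠ 1) (ht : t * t = s ^ 2)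
    (hst : t * s * t⁻¹ = s⁻¹) (hxs : x * s * x⁻¹ = t) (hxt : x * t * x⁻¹ = s * t) (hx : Odd (orderOf x)) :
    ∃ (H K : Subgroup G) (_ : (K.subgroupOf H).Normal), Nonempty ((H ⧸ K.subgroupOf H) ≃* SL23) := by
  set H : Subgroup G := Subgroup.closure {s, t, x} with hH
  set K : Subgroup G := Subgroup.zpowers (x ^ 3) with hK
  have hsH : s ∈ H := Subgroup.subset_closure (by simp)
  have htH : t ∈ H := Subgroup.subset_closure (by simp)
  have hxH : x ∈ H := Subgroup.subset_closure (by simp)
  have hxst : x * (s * t) * x⁻¹ = s := by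
    have h1 : x * (s * t) * x⁻¹ = (x * s * x⁻¹) * (x * t * x⁻¹) := by group
    have h2 : t * s = s⁻¹ * t := mul_inv_eq_iff_eq_mul.1 hst
    rw [h1, hxs, hxt, ← mul_assoc, h2, mul_assoc, ht]
    group
  have hx3s : x ^ 3 * s = s * x ^ 3 := by
    have : x ^ 3 * s * (x ^ 3)⁻¹ = x * (x * (x * s * x⁻¹) * x⁻¹) * x⁻¹ := by
      simp only [pow_succ, pow_zero, one_mul, mul_assoc, mul_inv_rev]
    rw [hxs, hxt, hxst] at this
    exact mul_inv_eq_iff_eq_mul.1 this
  have hx3t : x ^ 3 * t = t * x ^ 3 := by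
    have : x ^ 3 * t * (x ^ 3)⁻¹ = x * (x * (x * t * x⁻¹) * x⁻¹) * x⁻¹ := by
      simp only [pow_succ, pow_zero, one_mul, mul_assoc, mul_inv_rev]
    rw [hxt, hxst, hxs] at this
    exact mul_inv_eq_iff_eq_mul.1 this
  have hcent : ∀ h ∈ H, x ^ 3 * h = h * x ^ 3 := by
    intro h hh
    have h1 : H ≤ Subgroup.centralizer {x ^ 3} := by
      rw [hH, Subgroup.closure_le]
      rintro y (rfl | rfl | rfl)
      · rw [SetLike.mem_coe, Subgroup.mem_centralizer_singleton_iff]; exact hx3s.symm
      · rw [SetLike.mem_coe, Subgroup.mem_centralizer_singleton_iff]; exact hx3t.symm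
      · rw [SetLike.mem_coe, Subgroup.mem_centralizer_singleton_iff]
        rw [← pow_succ, ← pow_succ']
    have := h1 hh
    rw [Subgroup.mem_centralizer_singleton_iff] at this
    exact this.symm
  have hn : (K.subgroupOf H).Normal := by
    constructor
    rintro ⟨k, hkH⟩ hk ⟨h, hh⟩
    rw [Subgroup.mem_subgroupOf] at hk ⊢
    obtain ⟨m, hm⟩ := hk
    have hm' : (x ^ 3) ^ m = k := hm
    change h * k * h⁻¹ ∈ K
    have : h * k * h⁻¹ = k := by
      rw [← hm']
      have h1 : Commute (x ^ 3) h := hcent h hh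
      rw [← (h1.zpow_left m).eq]
      group
    rw [this]
    exact ⟨m, hm⟩
  refine ⟨H, K, hn, ?_⟩
  -- images
  set q : H →* H ⧸ K.subgroupOf H := QuotientGroup.mk' _ with hq
  set s' : H := ⟨s, hsH⟩
  set t' : H := ⟨t, htH⟩
  set x' : H := ⟨x, hxH⟩
  have e4 : s' ^ (2 * 2) = 1 := Subtype.ext h4
  have es : s' ^ 2 ≠ 1 := fun h => hs (congrArg Subtype.val h)
  have et : t' * t' = s' ^ 2 := Subtype.ext ht
  have est : t' * s' * t'⁻¹ = s'⁻¹ := Subtype.ext hst
  have exs : x' * s' * x'⁻¹ = t' := Subtype.ext hxs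
  have ext' : x' * t' * x'⁻¹ = s' * t' := Subtype.ext hxt
  have ex3 : q x' ^ 3 = 1 := by
    rw [← map_pow]
    exact (QuotientGroup.eq_one_iff _).2 (Subgroup.mem_subgroupOf.2 (Subgroup.mem_zpowers (x ^ 3)))
  let F0 : QuaternionGroup 2 →* H := lift 2 s' t' e4 et est
  let F1 : QuaternionGroup 2 →* H ⧸ K.subgroupOf H := q.comp F0
  let F2 : Multiplicative (ZMod 3) →* H ⧸ K.subgroupOf H :=
    { toFun := fun c => zp (q x') (Multiplicative.toAdd c)
      map_one' := zp_zero _
      map_mul' := fun c d => zp_add ex3 _ _ }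
  have hF0beta : F0.comp beta.toMonoidHom = (MulAut.conj x').toMonoidHom.comp F0 := by
    apply quat_hom_ext
    · change F0 (betaFun (.a 1)) = x' * F0 (.a 1) * x'⁻¹
      change t' * zp s' 0 = x' * zp s' 1 * x'⁻¹
      rw [zp_zero, mul_one, show zp s' (1 : ZMod (2 * 2)) = s' from pow_one _, exs]
    · change F0 (betaFun (.xa 0)) = x' * F0 (.xa 0) * x'⁻¹
      change t' * zp s' 3 = x' * (t' * zp s' 0) * x'⁻¹
      rw [zp_zero, mul_one, ext', show zp s' (3 : ZMod (2 * 2)) = s' ^ 3 from rfl]
      have h2 : t' * s' = s'⁻¹ * t' := mul_inv_eq_iff_eq_mul.1 est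
      have h3 : t' * s'⁻¹ = s' * t' := by
        have : t' * s'⁻¹ * t'⁻¹ = s' := by
          have := congrArg (·⁻¹) est
          simp only [mul_inv_rev, inv_inv] at this
          rw [mul_assoc]; exact this
        exact mul_inv_eq_iff_eq_mul.1 this
      have h4' : s' ^ 3 = s'⁻¹ := by
        rw [eq_inv_iff_mul_eq_one, ← pow_succ]
        exact e4
      rw [h4', h3]
  have hbeta : ∀ (k : ℕ) (y : QuaternionGroup 2), F1 ((beta ^ k) y) = (q x') ^ k * F1 y * ((q x') ^ k)⁻¹ := by
    intro k
    induction k with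
    | zero => intro y; simp
    | succ k ih =>
      intro y
      have h1 : F1 (beta y) = q x' * F1 y * (q x')⁻¹ := by
        have := DFunLike.congr_fun hF0beta y
        change q (F0 (beta y)) = _
        have h2 : F0 (beta y) = x' * F0 y * x'⁻¹ := this
        rw [h2, map_mul, map_mul, map_inv]
        rfl
      rw [pow_succ, MulAut.mul_apply, ih, h1, pow_succ]
      group
  have hcompat : ∀ g : Multiplicative (ZMod 3), F1.comp (phi g).toMonoidHom = (MulAut.conj (F2 g)).toMonoidHom.comp F1 := by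
    intro g
    ext1 y
    exact hbeta _ y
  let Psi : QuaternionGroup 2 ⋊[phi] Multiplicative (ZMod 3) →* H ⧸ K.subgroupOf H := SemidirectProduct.lift F1 F2 hcompat
  have hinj : Function.Injective Psi := by
    rw [injective_iff_map_eq_one]
    rintro ⟨y, c⟩ h
    have h1 : F1 y * F2 c = 1 := h
    have h2 : q (F0 y * x' ^ (Multiplicative.toAdd c).val) = 1 := by
      rw [map_mul, map_pow]; exact h1
    have h3 : ((F0 y : H) : G) * x ^ (Multiplicative.toAdd c).val ∈ K :=
      Subgroup.mem_subgroupOf.1 ((QuotientGroup.eq_one_iff _).1 h2)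
    have hKle : K ≤ Subgroup.zpowers x := by
      rw [hK, Subgroup.zpowers_le]
      exact (Subgroup.zpowers x).pow_mem (Subgroup.mem_zpowers x) 3
    have h4 : ((F0 y : H) : G) ∈ Subgroup.zpowers x := by
      have := (Subgroup.zpowers x).mul_mem (hKle h3)
        ((Subgroup.zpowers x).inv_mem ((Subgroup.zpowers x).pow_mem (Subgroup.mem_zpowers x) (Multiplicative.toAdd c).val))
      rwa [mul_inv_cancel_right] at this
    have h5 : ((F0 y : H) : G) = 1 := by
      rw [← orderOf_eq_one_iff]
      have h6 : orderOf ((F0 y : H) : G) ∣ 2 ^ 2 := by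
        apply orderOf_dvd_of_pow_eq_one
        rw [← Subgroup.coe_pow, ← map_pow]
        have : ∀ y : QuaternionGroup 2, y ^ 2 ^ 2 = 1 := by decide
        rw [this y, map_one, Subgroup.coe_one]
      have h7 : orderOf ((F0 y : H) : G) ∣ orderOf x := by
        exact orderOf_dvd_of_mem_zpowers h4
      exact Nat.eq_one_of_dvd_coprimes ((Nat.coprime_two_right.2 hx).pow_right 2) h7 h6
    have h6 : y = 1 := by
      apply lift_injective e4 es et est
      rw [map_one]
      exact Subtype.ext h5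
    subst h6
    have h7 : x ^ (Multiplicative.toAdd c).val ∈ K := by
      rw [h5, one_mul] at h3; exact h3
    have hxK : x ∉ K := by
      intro hxK
      obtain ⟨m, hm⟩ := hxK
      have hm' : (x ^ 3) ^ m = x := hm
      have h1 : Commute (x ^ 3) s := hx3s
      have h2 : x * s = s * x := by
        have := (h1.zpow_left m).eq
        rwa [hm'] at this
      rw [h2, mul_inv_cancel_right] at hxs
      rw [← hxs, mul_inv_cancel_right] at hst
      apply hs
      rw [pow_two]
      nth_rewrite 1 [hst]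
      exact inv_mul_cancel s
    have h8 : ∀ c : ZMod 3, c = 0 ∨ c.val = 1 ∨ c.val = 2 := by decide
    rcases h8 (Multiplicative.toAdd c) with h0 | h0 | h0
    · have : c = 1 := h0
      rw [this]; rfl
    · rw [h0, pow_one] at h7
      exact absurd h7 hxK
    · rw [h0] at h7
      exfalso
      apply hxK
      have := K.mul_mem (Subgroup.mem_zpowers (x ^ 3)) (K.inv_mem h7)
      have h9 : x ^ 3 * (x ^ 2)⁻¹ = x := by group
      rwa [h9] at this
  have hsurj : Function.Surjective Psi := by
    intro z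
    obtain ⟨⟨y, hy⟩, rfl⟩ := QuotientGroup.mk_surjective z
    have : ∀ (y : G) (hy : y ∈ Subgroup.closure ({s, t, x} : Set G)),
        (q ⟨y, hy⟩ : H ⧸ K.subgroupOf H) ∈ Psi.range := by
      intro y hy
      induction hy using Subgroup.closure_induction with
      | mem y hy =>
        rcases hy with rfl | rfl | rfl
        · refine ⟨SemidirectProduct.inl (.a 1), ?_⟩
          rw [SemidirectProduct.lift_inl]
          change q (zp s' 1) = _
          rw [show zp s' (1 : ZMod (2 * 2)) = s' from pow_one _]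
        · refine ⟨SemidirectProduct.inl (.xa 0), ?_⟩
          rw [SemidirectProduct.lift_inl]
          change q (t' * zp s' 0) = _
          rw [zp_zero, mul_one]
        · refine ⟨SemidirectProduct.inr (Multiplicative.ofAdd 1), ?_⟩
          rw [SemidirectProduct.lift_inr]
          change zp (q x') (1 : ZMod 3) = _
          exact pow_one _
      | one => exact ⟨1, map_one _⟩
      | mul a b ha hb iha ihb =>
        have : (q ⟨a * b, mul_mem ha hb⟩ : H ⧸ K.subgroupOf H) = q ⟨a, ha⟩ * q ⟨b, hb⟩ := by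
          rw [← map_mul]; rfl
        rw [this]
        exact Subgroup.mul_mem _ iha ihb
      | inv a ha iha =>
        have : (q ⟨a⁻¹, inv_mem ha⟩ : H ⧸ K.subgroupOf H) = (q ⟨a, ha⟩)⁻¹ := by
          rw [← map_inv]; rfl
        rw [this]
        exact Subgroup.inv_mem _ iha
    exact this y hy
  exact ⟨(MulEquiv.ofBijective Psi ⟨hinj, hsurj⟩).symm.trans equivSL⟩

end sec

end Cfsg.Agent.Quat
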