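import Mathlib.GroupTheory.SpecificGroups.Quaternion
import Mathlib.LinearAlgebra.Matrix.SpecialLinearGroup
import Mathlib.GroupTheory.SemidirectProduct
import Mathlib.Data.ZMod.Basic
import Mathlib.Tactic.FinCases
import Mathlib.Data.Matrix.Mul

/-!
# Homomorphisms out of quaternion groups and `SL(2,3) = Q₈ ⋊ C₃`
-/

set_option autoImplicit false

namespace Cfsg.Agent.Quat

section lift

variable {M : Type*} [Group M]

/-- `i ↦ u ^ i` on `ZMod m`, a homomorphism when `u ^ m = 1`. -/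
def zp {m : ℕ} (u : M) (i : ZMod m) : M := u ^ i.val

theorem zp_zero {m : ℕ} [NeZero m] (u : M) : zp u (0 : ZMod m) = 1 := by
  rw [zp, ZMod.val_zero, pow_zero]

theorem zp_add {m : ℕ} [NeZero m] {u : M} (h : u ^ m = 1) (i j : ZMod m) : zp u (i + j) = zp u i * zp u j := by
  rw [zp, zp, zp, ZMod.val_add, ← pow_add]
  exact (pow_eq_pow_mod _ h).symm

theorem zp_natCast {m : ℕ} [NeZero m] {u : M} (h : u ^ m = 1) (k : ℕ) : zp u (k : ZMod m) = u ^ k := by
  rw [zp, ZMod.val_natCast]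
  exact (pow_eq_pow_mod _ h).symm

theorem zp_neg {m : ℕ} [NeZero m] {u : M} (h : u ^ m = 1) (i : ZMod m) : zp u (-i) = (zp u i)⁻¹ := by
  rw [eq_inv_iff_mul_eq_one, ← zp_add h, neg_add_cancel, zp_zero]

theorem zp_sub {m : ℕ} [NeZero m] {u : M} (h : u ^ m = 1) (i j : ZMod m) : zp u (i - j) = zp u i * (zp u j)⁻¹ := by
  rw [sub_eq_add_neg, zp_add h, zp_neg h]

theorem zp_mul_comm {m : ℕ} [NeZero m] {u : M} (h : u ^ m = 1) (i j : ZMod m) : zp u i * zp u j = zp u j * zp u i := by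
  rw [← zp_add h, ← zp_add h, add_comm]

theorem zp_conj {m : ℕ} {u v : M} (h : v * u * v⁻¹ = u⁻¹) (i : ZMod m) : zp u i * v = v * (zp u i)⁻¹ := by
  have h1 : v * zp u i * v⁻¹ = (zp u i)⁻¹ := by
    rw [zp, ← conj_pow, h, inv_pow]
  have h2 : v * (zp u i)⁻¹ * v⁻¹ = zp u i := by
    have := congrArg (·⁻¹) h1
    simp only [mul_inv_rev, inv_inv] at this
    rw [mul_assoc]
    exact this
  exact (mul_inv_eq_iff_eq_mul.1 h2).symm

/-- The homomorphism `QuaternionGroup n →* M` sending `a 1 ↦ u`, `xa 0 ↦ v`. -/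
def lift (n : ℕ) [NeZero n] (u v : M) (h1 : u ^ (2 * n) = 1) (h2 : v * v = u ^ n) (h3 : v * u * v⁻¹ = u⁻¹) :
    QuaternionGroup n →* M where
  toFun
    | .a i => zp u i
    | .xa i => v * zp u i
  map_one' := zp_zero u
  map_mul' := by
    have hn : zp u ((n : ℕ) : ZMod (2 * n)) = u ^ n := zp_natCast h1 n
    rintro (i | i) (j | j)
    · rw [QuaternionGroup.a_mul_a]
      exact zp_add h1 i j
    · rw [QuaternionGroup.a_mul_xa]
      change v * zp u (j - i) = zp u i * (v * zp u j)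
      rw [← mul_assoc, zp_conj h3, zp_sub h1, mul_assoc, zp_sub_aux h1]
    · rw [QuaternionGroup.xa_mul_a]
      change v * zp u (i + j) = v * zp u i * zp u j
      rw [zp_add h1, mul_assoc]
    · rw [QuaternionGroup.xa_mul_xa]
      change zp u ((n : ZMod (2 * n)) + j - i) = v * zp u i * (v * zp u j)
      rw [add_sub_assoc, zp_add h1, hn, ← h2, zp_sub h1, zp_sub_aux h1]
      calc v * v * ((zp u i)⁻¹ * zp u j) = v * (v * (zp u i)⁻¹) * zp u j := by group
        _ = v * (zp u i * v) * zp u j := by rw [zp_conj h3]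
        _ = v * zp u i * (v * zp u j) := by group
where
  zp_sub_aux {m : ℕ} [NeZero m] {u : M} (h : u ^ m = 1) {i j : ZMod m} :
      zp u j * (zp u i)⁻¹ = (zp u i)⁻¹ * zp u j := by
    rw [← zp_neg h, zp_mul_comm h]

end lift

end Cfsg.Agent.Quat
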